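import Cfsg.Agent.Lib.Trans3.FiLarge.Coord
import Cfsg.Agent.Lib.Trans3.ExtraTwoOut
import Cfsg.Agent.Lib.PLocal.LargeExtraCriterion
import Cfsg.Agent.Lib.InvChar.HallJankoSetup
import Cfsg.Agent.Lib.Trans3.InnerCentral

/-!
The action of the centraliser of the involution on the quadratic space of its extraspecial subgroup.
-/

set_option autoImplicit false

namespace CfsgLib.ClassK.FiCoord

open Subgroup CfsgLib.Trans3.ExtraTwo CfsgLib.PLocal.LargeExtra

variable {C : Type*} [Group C] {Q : Subgroup C} [Q.Normal] {n : ℕ} {t : Fin n → Bool}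
  (e : ↥Q ≃* ES n t)

/-- Conjugation read in the model. -/
def kap : C →* MulAut (ES n t) :=
  (MulAut.congr e).toMonoidHom.comp MulAut.conjNormal

/-- The linear action. -/
def rho : C →* Module.End (ZMod 2) (Sp n) where
  toFun h := vLin t (kap e h)
  map_one' := by rw [map_one, vLin_one]; rfl
  map_mul' g h := by rw [map_mul, vLin_mul]; rfl

/-- The vector of an element of `Q`; junk outside. -/
noncomputable def vec (c : C) : Sp n := by
  classical exact if h : c ∈ Q then (e ⟨c, h⟩).v else 0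

theorem vec_eq {c : C} (h : c ∈ Q) : vec e c = (e ⟨c, h⟩).v := dif_pos h

theorem vec_mul {q r : C} (hq : q ∈ Q) (hr : r ∈ Q) : vec e (q * r) = vec e q + vec e r := by
  rw [vec_eq e (mul_mem hq hr), vec_eq e hq, vec_eq e hr, ← mul_v]
  exact congrArg ES.v (map_mul e ⟨q, hq⟩ ⟨r, hr⟩)

theorem vec_surj (v : Sp n) : ∃ q ∈ Q, vec e q = v := by
  refine ⟨e.symm (lift t v), SetLike.coe_mem _, ?_⟩
  rw [vec_eq e (SetLike.coe_mem _)]
  simp [lift]

theorem vec_conj (h : C) {q : C} (hq : q ∈ Q) : vec e (h * q * h⁻¹) = rho e h (vec e q) := by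
  rw [vec_eq e ((inferInstance : Q.Normal).conj_mem q hq h), vec_eq e hq]
  show _ = (kap e h (lift t (e ⟨q, hq⟩).v)).v
  rw [← v_map]
  have hk : kap e h (e ⟨q, hq⟩) = e (MulAut.conjNormal h ⟨q, hq⟩) := by
    show e (MulAut.conjNormal h (e.symm (e ⟨q, hq⟩))) = _
    rw [e.symm_apply_apply]
  rw [hk]
  exact congrArg (fun x : Q => (e x).v) (Subtype.ext (MulAut.conjNormal_apply h ⟨q, hq⟩).symm)

theorem rho_beta (h : C) (v : Sp n) : beta t (rho e h v) (rho e h v) = beta t v v := q_vLin t _ v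

theorem sq_iff {q : C} (hq : q ∈ Q) : q * q = 1 ↔ beta t (vec e q) (vec e q) = 0 := by
  rw [vec_eq e hq]
  have h1 : q * q = 1 ↔ e ⟨q, hq⟩ * e ⟨q, hq⟩ = 1 := by
    rw [← map_mul, e.map_eq_one_iff]
    exact ⟨fun h => Subtype.ext h, fun h => congrArg Subtype.val h⟩
  rw [h1, sq_eq]
  exact ⟨fun h => congrArg ES.c h, fun h => ES.ext rfl h⟩

theorem comm_iff' {q r : C} (hq : q ∈ Q) (hr : r ∈ Q) :
    q * r = r * q ↔ alt (vec e q) (vec e r) = 0 := by
  rw [vec_eq e hq, vec_eq e hr, ← CfsgLib.Trans3.ExtraTwo.comm_iff, ← map_mul, ← map_mul,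
    e.injective.eq_iff]
  exact ⟨fun h => Subtype.ext h, fun h => congrArg Subtype.val h⟩

theorem vec_eq_zero {q : C} (hq : q ∈ Q) : vec e q = 0 ↔ (⟨q, hq⟩ : Q) ∈ center Q := by
  rw [vec_eq e hq, ← mem_center_iff, Subgroup.mem_center_iff, Subgroup.mem_center_iff]
  constructor
  · intro h y
    exact e.injective (by rw [map_mul, map_mul]; exact h (e y))
  · intro h y
    obtain ⟨y, rfl⟩ := e.surjective y
    rw [← map_mul, ← map_mul, h y]

theorem rho_of_mem {q : C} (hq : q ∈ Q) : rho e q = 1 := by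
  refine LinearMap.ext fun v => ?_
  obtain ⟨r, hr, rfl⟩ := vec_surj e v
  rw [← vec_conj e q hr, Module.End.one_apply, vec_mul e (mul_mem hq hr) (inv_mem hq), vec_mul e hq hr]
  have h := vec_mul e hq (inv_mem hq)
  rw [mul_inv_cancel] at h
  have h1 : vec e (1 : C) = 0 := by
    rw [vec_eq e (one_mem Q), show (⟨1, one_mem Q⟩ : Q) = 1 from rfl, map_one, one_v]
  rw [h1] at h
  rw [show vec e q + vec e r + vec e q⁻¹ = (vec e q + vec e q⁻¹) + vec e r by abel, ← h, zero_add]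

/-- Only the elements of `Q` act trivially. -/
theorem mem_of_rho [Finite C] (hext : Cfsg.IsExtraspecial 2 Q)
    (hcent : ∀ c : C, (∀ q ∈ Q, q * c = c * q) → c ∈ Q)
    {h : C} (hh : rho e h = 1) : h ∈ Q := by
  have hφ : ∀ x : Q, MulAut.conjNormal h x * x⁻¹ ∈ center Q := fun x => by
    rw [← vec_eq_zero e (SetLike.coe_mem _)]
    rw [Subgroup.coe_mul, InvMemClass.coe_inv, MulAut.conjNormal_apply,
      vec_mul e ((inferInstance : Q.Normal).conj_mem _ x.2 h) (inv_mem x.2), vec_conj e h x.2, hh,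
      Module.End.one_apply, ← vec_mul e x.2 (inv_mem x.2), mul_inv_cancel, vec_eq e (one_mem Q),
      show (⟨1, one_mem Q⟩ : Q) = 1 from rfl, map_one, one_v]
  obtain ⟨g, hg⟩ := Trans3.exists_conj_of_trivial_mod_center hext (MulAut.conjNormal h) hφ
  have := hcent ((g : C)⁻¹ * h) fun q hq => by
    have e1 : h * q * h⁻¹ = g * q * (g : C)⁻¹ :=
      (MulAut.conjNormal_apply h ⟨q, hq⟩).symm.trans (congrArg Subtype.val (hg ⟨q, hq⟩))
    calc q * ((g : C)⁻¹ * h) = (g : C)⁻¹ * (g * q * (g : C)⁻¹) * h := by group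
      _ = (g : C)⁻¹ * h * q := by rw [← e1]; group
  simpa using mul_mem g.2 this

end CfsgLib.ClassK.FiCoord
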