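import Cfsg.Agent.Lib.ClassK.FiCoord.Cover
import Cfsg.Agent.Lib.ClassK.FiCoord.Lin
import Cfsg.Prelude.Def_MonsterType

/-!
Coordinates exist in a group of large Fischer type.
-/

set_option autoImplicit false

namespace CfsgLib.ClassK.FiCoord

open Subgroup CfsgLib.Chev.U43U6 CfsgLib.Trans3.FiLarge CfsgLib.Trans3.ExtraTwo CfsgLib.PLocal.LargeExtra
open CfsgLib.KnownA.U4ThreeSchur (GP card_GP)

theorem herm_trace (σ : Sp 6 → Sp 6) (v u : Sp 6) :
    alt v u = 0 ↔ hh σ v u + hh σ v u ^ 2 = 0 := (io_facts.2.2.2.2.1 _ _).symm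

/-- The standard form is preserved or conjugated. -/
theorem herm_semi (t : Fin 6 → Bool) (σ f : Sp 6 →ₗ[ZMod 2] Sp 6) (h3 : ∀ v, σ (σ (σ v)) = v)
    (hfix : ∀ v, σ v = v → v = 0)
    (hf : ∀ v, beta t (f v) (f v) = beta t v v) (e : ℕ)
    (he : e = 1 ∧ (∀ v, f (σ v) = σ (f v)) ∨ e = 2 ∧ ∀ v, f (σ v) = σ (σ (f v))) (v u : Sp 6) :
    hh σ (f v) (f u) = hh σ v u ^ e := by
  have halt : ∀ v u, alt (f v) (f u) = alt v u := fun v u => by
    have h := hf (v + u)
    rw [map_add, beta_add_self, beta_add_self, hf, hf] at h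
    exact add_left_cancel h
  rcases he with ⟨rfl, he⟩ | ⟨rfl, he⟩
  · simp only [hh, ← he, halt, pow_one]
  · have h1 : σ (σ v) + σ v + v = 0 := hfix _ (by simp only [map_add, h3]; abel)
    have h2 : σ v = σ (σ v) + v := by
      have h := congrArg (fun w => w + σ v) h1
      rw [zero_add, show σ (σ v) + σ v + v + σ v = σ (σ v) + v + (σ v + σ v) by abel, sp_add_self,
        add_zero] at h
      exact h.symm
    simp only [hh, ← he, halt]
    rw [show alt (σ v) u = alt (σ (σ v)) u + alt v u by rw [← alt_add_left, ← h2], io_facts.2.2.2.1]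

theorem exists_coord {G : Type*} [Group G] [Finite G] {z : G}
    {Q : Subgroup (Subgroup.centralizer ({z} : Set G))} [Q.Normal]
    (hF : Cfsg.IsOfLargeFischerTypeAt z Q) : Nonempty (Coord z Q) := by
  classical
  haveI : Fact (Nat.Prime 3) := ⟨Nat.prime_three⟩
  obtain ⟨⟨hz, hfit, hext, hcard, -⟩, N, M, hN, hM, hQN, hNM, hcN, ⟨K, _, _, hK, ⟨eM⟩⟩, hMi⟩ := hF
  have hK2 : Fintype.card K = 3 ^ 2 := by rw [hK]; norm_num
  obtain ⟨ψ⟩ := CfsgLib.KnownA.U4ThreeSchur.exists_equiv hK2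
  haveI := CfsgLib.Classical.isSimpleGroup_psu (n := 4) (q := 3) hK2 (by norm_num) (by norm_num)
  haveI : IsSimpleGroup GP := ψ.isSimpleGroup_congr.2 inferInstance
  have hP : Pack (Q.map (centralizer ({z} : Set G)).subtype) z :=
    pack_of_fstar hz (map_subtype_le _) (by rw [hfit])
      (InvChar.HJType.extraspecial_of_equiv (equivMapOfInjective Q _ (subtype_injective _)) hext)
  have hcent : ∀ c : centralizer ({z} : Set G), (∀ q ∈ Q, q * c = c * q) → c ∈ Q := by
    intro c hc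
    have : (c : G) ∈ Q.map (centralizer ({z} : Set G)).subtype := hP.cent (mem_centralizer_iff.2 (by
      rintro _ ⟨q, hq, rfl⟩
      exact congrArg Subtype.val (hc q hq)))
    obtain ⟨q, hq, hqc⟩ := this
    rwa [← subtype_injective _ hqc]
  have hzero : ∀ q (hq : q ∈ Q), ((⟨q, hq⟩ : Q) ∈ center Q ↔ (q : G) = 1 ∨ (q : G) = z) := by
    intro q hq
    have hcenmap := hP.cen
    constructor
    · intro hc
      refine Trans3.mem_zpowers_invol hz (hcenmap ▸ ?_)
      refine ⟨⟨q, mem_map_of_mem _ hq⟩, mem_center_iff.2 ?_, rfl⟩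
      rintro ⟨_, r, hr, rfl⟩
      exact Subtype.ext (congrArg (fun x : Q => ((x : centralizer ({z} : Set G)) : G))
        (mem_center_iff.1 hc ⟨r, hr⟩))
    · intro h
      refine mem_center_iff.2 fun r => Subtype.ext (Subtype.ext ?_)
      show ((r : centralizer ({z} : Set G)) : G) * (q : G) = (q : G) * (r : centralizer ({z} : Set G))
      rcases h with h | h <;> rw [h]
      · simp
      · exact mem_centralizer_singleton_iff.1 (r : centralizer ({z} : Set G)).2
  obtain ⟨t, ⟨e⟩⟩ : ∃ t : Fin 6 → Bool, Nonempty (Q ≃* ES 6 t) := by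
    rcases iso_model hext 5 (by rw [hcard]) with h | h
    exacts [⟨_, h⟩, ⟨_, h⟩]
  set ρ := rho e
  have hker : ∀ h, ρ h = 1 → h ∈ Q := fun h hh => mem_of_rho e hext hcent hh
  have hQM : Q ≤ M := hQN.trans hNM
  haveI : (Q.subgroupOf M).Normal := inferInstance
  haveI : (N.subgroupOf M).Normal := inferInstance
  let ρA : M ⧸ Q.subgroupOf M →* Module.End (ZMod 2) (Sp 6) :=
    QuotientGroup.lift _ (ρ.comp M.subtype) fun m hm => by
      rw [MonoidHom.mem_ker]; exact rho_of_mem e hm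
  let e0 : M ⧸ N.subgroupOf M ≃* GP := eM.trans ψ.symm
  let π : M ⧸ Q.subgroupOf M →* GP :=
    QuotientGroup.lift _ (e0.toMonoidHom.comp (QuotientGroup.mk' (N.subgroupOf M))) fun m hm => by
      rw [MonoidHom.mem_ker, MonoidHom.comp_apply, QuotientGroup.mk'_apply,
        (QuotientGroup.eq_one_iff m).2 (hQN hm : m ∈ N.subgroupOf M), map_one]
  have hπv : ∀ m : M, π (m : M ⧸ Q.subgroupOf M) = e0 (m : M ⧸ N.subgroupOf M) := fun _ => rfl
  have hπ : Function.Surjective π := fun y => by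
    obtain ⟨m, hm⟩ := QuotientGroup.mk_surjective (e0.symm y)
    exact ⟨m, by rw [hπv, hm, e0.apply_symm_apply]⟩
  obtain ⟨x, hxN, hxQ⟩ : ∃ x ∈ N, x ∉ Q := by
    by_contra h
    push Not at h
    have := Subgroup.card_le_of_le (show N ≤ Q from h)
    have : 0 < Nat.card Q := Nat.card_pos
    omega
  set xA : M ⧸ Q.subgroupOf M := ((⟨x, hNM hxN⟩ : M) : M ⧸ Q.subgroupOf M)
  have hxπ : xA ∈ π.ker := by
    rw [MonoidHom.mem_ker, hπv, (QuotientGroup.eq_one_iff (⟨x, hNM hxN⟩ : M)).2 hxN, map_one]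
  have hxne : xA ≠ 1 := fun h => hxQ ((QuotientGroup.eq_one_iff (⟨x, hNM hxN⟩ : M)).1 h)
  have hkcard : Nat.card π.ker = 3 := by
    have h1 := π.ker.card_mul_index
    rw [Subgroup.index, Nat.card_congr (QuotientGroup.quotientKerEquivOfSurjective π hπ).toEquiv] at h1
    have h2 := (N.subgroupOf M).card_mul_index
    rw [Subgroup.index, Nat.card_congr e0.toEquiv, Nat.card_congr (subgroupOfEquivOfLe hNM).toEquiv,
      hcN] at h2
    have h3 := (Q.subgroupOf M).card_mul_index
    rw [Subgroup.index, Nat.card_congr (subgroupOfEquivOfLe hQM).toEquiv] at h3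
    have hpos : 0 < Nat.card GP := Nat.card_pos
    have hQpos : 0 < Nat.card Q := Nat.card_pos
    refine Nat.eq_of_mul_eq_mul_right hpos (h1.trans (Nat.eq_of_mul_eq_mul_left hQpos ?_))
    rw [h3, ← h2]; ring
  have hx3 : orderOf xA = 3 := by
    refine orderOf_eq_prime ?_ hxne
    have h := pow_card_eq_one' (G := π.ker) (x := ⟨xA, hxπ⟩)
    rw [hkcard] at h
    exact congrArg Subtype.val h
  have hkerz : π.ker = zpowers xA := by
    refine (Subgroup.eq_of_le_of_card_ge (zpowers_le.2 hxπ) ?_).symm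
    rw [Nat.card_zpowers, hx3, hkcard]
  have hpow : ∀ y, y ∈ π.ker → y = 1 ∨ y = xA ∨ y = xA * xA := by
    intro y hy
    rw [hkerz, mem_zpowers_iff_mem_range_orderOf, hx3] at hy
    simp only [Finset.mem_image, Finset.mem_range] at hy
    obtain ⟨i, hi, rfl⟩ := hy
    rcases (show i = 0 ∨ i = 1 ∨ i = 2 by omega) with rfl | rfl | rfl
    · left; rw [pow_zero]
    · right; left; rw [pow_one]
    · right; right; rw [pow_two]
  have hconj : ∀ a : M ⧸ Q.subgroupOf M, a * xA * a⁻¹ = xA ∨ a * xA * a⁻¹ = xA * xA := fun a => by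
    rcases hpow _ (π.normal_ker.conj_mem xA hxπ a) with h | h | h
    · exfalso
      refine hxne ?_
      rw [mul_inv_eq_one] at h
      exact mul_eq_left.1 h
    exacts [Or.inl h, Or.inr h]
  have hxx : xA * xA * xA = 1 := by rw [← pow_three', ← hx3, pow_orderOf_eq_one]
  have hcomm : ∀ a, a * xA = xA * a := by
    let D : Subgroup (M ⧸ Q.subgroupOf M) := centralizer {xA}
    have hD : ∀ a, a ∈ D ↔ a * xA = xA * a := fun a => mem_centralizer_singleton_iff
    have hsqD : ∀ a, a * a ∈ D := fun a => by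
      rw [hD, ← mul_inv_eq_iff_eq_mul]
      rcases hconj a with h | h
      · rw [show a * a * xA * (a * a)⁻¹ = a * (a * xA * a⁻¹) * a⁻¹ by group, h, h]
      · rw [show a * a * xA * (a * a)⁻¹ = a * (a * xA * a⁻¹) * a⁻¹ by group, h,
          show a * (xA * xA) * a⁻¹ = (a * xA * a⁻¹) * (a * xA * a⁻¹) by group, h,
          ← mul_assoc, hxx, one_mul]
    have hsq : ∀ y : GP, y * y ∈ D.map π := fun y => by
      obtain ⟨a, rfl⟩ := hπ y
      rw [← map_mul]; exact mem_map_of_mem π (hsqD a)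
    have hDn : (D.map π).Normal := ⟨fun r hr g => by
      rw [show g * r * g⁻¹ = g * r * (g * r) * r⁻¹ * (g⁻¹ * g⁻¹) by group]
      exact mul_mem (mul_mem (hsq _) (inv_mem hr)) (hsq _)⟩
    have htop : D.map π = ⊤ := by
      refine hDn.eq_bot_or_eq_top.resolve_left fun hb => ?_
      obtain ⟨y, hy⟩ := three_dvd_GP
      exact hy (mem_bot.1 (hb ▸ hsq y))
    intro a
    obtain ⟨d, hd, hda⟩ : π a ∈ D.map π := htop ▸ mem_top _
    have hk : d⁻¹ * a ∈ π.ker := by rw [MonoidHom.mem_ker, map_mul, map_inv, hda, inv_mul_cancel]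
    have hk' : d⁻¹ * a ∈ D := by
      rw [hkerz] at hk
      exact zpowers_le.2 ((hD _).2 rfl) hk
    have := (hD _).1 (D.mul_mem hd hk')
    rwa [mul_inv_cancel_left] at this
  have hinj : Function.Injective ρA := (injective_iff_map_eq_one _).2 fun a ha => by
    obtain ⟨m, rfl⟩ := QuotientGroup.mk_surjective a
    exact (QuotientGroup.eq_one_iff m).2 (hker m ha)
  obtain ⟨b, pr, act, hpr, hact, hrange, hpa, hsq, hprom, hherm⟩ := exists_coords t π hπ xA hx3 hkerz hcomm
    ρA hinj fun a v => by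
      obtain ⟨m, rfl⟩ := QuotientGroup.mk_surjective a
      exact rho_beta e _ v
  have hσ : ρA xA = ρ x := rfl
  have hfix : ∀ v, ρA xA v = v → v = 0 := fun v hv => hpr.1 (by
    have h := hprom v
    rw [hv] at h
    funext i
    have hi := congrFun h i
    rw [Pi.smul_apply, smul_eq_mul] at hi
    have : (om - 1) * pr v i = 0 := by rw [sub_mul, one_mul, ← hi, sub_self]
    rw [map_zero]
    exact (mul_eq_zero.1 this).resolve_left (by decide))
  refine ⟨{
    b := b
    pr := fun c => pr (vec e c)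
    pr_mul := fun q hq r hr => by rw [vec_mul e hq hr, map_add]
    pr_surj := fun v => by
      obtain ⟨w, rfl⟩ := hpr.2 v
      obtain ⟨q, hq, rfl⟩ := vec_surj e w
      exact ⟨q, hq, rfl⟩
    pr_eq_zero := fun q hq => by
      rw [← map_zero pr, hpr.1.eq_iff, vec_eq_zero e hq, hzero]
    comm_iff := fun q hq r hr => by
      rw [comm_iff' e hq hr, hherm, herm_trace]
    sq_iff := fun q hq => by rw [sq_iff e hq, hsq]
    M := M
    le_M := hQM
    index_M := hMi
    act := act.comp (QuotientGroup.mk' (Q.subgroupOf M))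
    range_act := by
      rw [MonoidHom.range_comp, MonoidHom.range_eq_top.2 (QuotientGroup.mk'_surjective _),
        ← MonoidHom.range_eq_map]
      exact hrange
    ker_act := fun m => by
      rw [MonoidHom.comp_apply, map_eq_one_iff act hact, QuotientGroup.mk'_apply, QuotientGroup.eq_one_iff,
        mem_subgroupOf]
    conj_pr := fun m q hq => by
      rw [vec_conj e _ hq]
      exact hpa (m : M ⧸ Q.subgroupOf M) (vec e q)
    faithful := fun h hh => by
      refine hker h (LinearMap.ext fun v => ?_)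
      obtain ⟨q, hq, rfl⟩ := vec_surj e v
      exact (vec_conj e h hq).symm.trans (hpr.1 (hh q hq))
    semi := fun h => ?_ }⟩
  -- conjugation moves the element of order three to itself or its inverse
  have hρinv : ∀ v, ρ h⁻¹ (ρ h v) = v := fun v => by
    rw [← Module.End.mul_apply, ← map_mul, inv_mul_cancel, map_one, Module.End.one_apply]
  have hρ : ρ (h * x * h⁻¹) = ρA ((⟨h * x * h⁻¹, hNM (hN.conj_mem x hxN h)⟩ : M) : M ⧸ Q.subgroupOf M) := rfl
  have hh : ∀ v, ρ (h * x * h⁻¹) (ρ h v) = ρ h (ρ x v) := fun v => by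
    rw [← Module.End.mul_apply, ← Module.End.mul_apply, ← map_mul, ← map_mul, inv_mul_cancel_right]
  obtain ⟨k, hk, hk'⟩ : ∃ k : ℕ, (k = 1 ∨ k = 2) ∧
      (k = 1 ∧ (∀ v, ρ h (ρA xA v) = ρA xA (ρ h v)) ∨
        k = 2 ∧ ∀ v, ρ h (ρA xA v) = ρA xA (ρA xA (ρ h v))) := by
    have hmem : ((⟨h * x * h⁻¹, hNM (hN.conj_mem x hxN h)⟩ : M) : M ⧸ Q.subgroupOf M) ∈ π.ker := by
      rw [MonoidHom.mem_ker, hπv, (QuotientGroup.eq_one_iff (N := N.subgroupOf M)
        (⟨h * x * h⁻¹, hNM (hN.conj_mem x hxN h)⟩ : M)).2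
        (mem_subgroupOf.2 (hN.conj_mem x hxN h)), map_one]
    rcases hpow _ hmem with e1 | e1 | e1
    · exfalso
      have h1 : h * x * h⁻¹ ∈ Q := (QuotientGroup.eq_one_iff
        (⟨h * x * h⁻¹, hNM (hN.conj_mem x hxN h)⟩ : M)).1 e1
      have h2 := (inferInstance : Q.Normal).conj_mem _ h1 h⁻¹
      rw [show h⁻¹ * (h * x * h⁻¹) * h⁻¹⁻¹ = x by group] at h2
      exact hxQ h2
    · refine ⟨1, Or.inl rfl, Or.inl ⟨rfl, fun v => ?_⟩⟩
      rw [hσ, ← hh v, hρ, e1, hσ]
    · refine ⟨2, Or.inr rfl, Or.inr ⟨rfl, fun v => ?_⟩⟩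
      rw [hσ, ← hh v, hρ, e1, map_mul, Module.End.mul_apply, hσ]
  refine ⟨k, hk, fun q hq r hr a hra => ?_, fun q hq r hr => ?_⟩
  · rw [vec_conj e h hq, vec_conj e h hr]
    let P : Sp 6 ≃+ V6 := AddEquiv.ofBijective pr hpr
    have hP : ∀ v, P v = pr v := fun _ => rfl
    have hs := smul_of_om k (by omega) (AddMonoidHom.mk' (fun w => pr (ρ h (P.symm w)))
      (fun u w => by simp)) (fun w => by
        show pr (ρ h (P.symm (om • w))) = om ^ k • pr (ρ h (P.symm w))
        obtain ⟨v, rfl⟩ := P.surjective w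
        rw [P.symm_apply_apply, hP v, ← hprom, ← hP (ρA xA v), P.symm_apply_apply]
        rcases hk' with ⟨rfl, h1⟩ | ⟨rfl, h1⟩
        · rw [h1, hprom, pow_one]
        · rw [h1, hprom, hprom, pow_two, mul_smul]) a (pr (vec e q))
    change pr (ρ h (P.symm (a • pr (vec e q)))) = a ^ k • pr (ρ h (P.symm (pr (vec e q)))) at hs
    rw [← hra, ← hP (vec e r), ← hP (vec e q), P.symm_apply_apply, P.symm_apply_apply] at hs
    exact hs
  · rw [vec_conj e h hq, vec_conj e h hr, hherm, hherm]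
    exact herm_semi t (ρA xA) (ρ h) (fun v => by
      rw [← Module.End.mul_apply, ← Module.End.mul_apply, ← map_mul, ← map_mul, hxx, map_one,
        Module.End.one_apply]) hfix (rho_beta e h) k hk' _ _

end CfsgLib.ClassK.FiCoord
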