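import Cfsg.Agent.Lib.ClassK.FiCoord.NoRep

/-!
A faithful action of a triple cover of `GP` in dimension twelve over two elements: the central
element of order three fixes only the zero vector.
-/

set_option autoImplicit false

namespace CfsgLib.ClassK.FiCoord

open CfsgLib.KnownA.U4ThreeSchur (GP card_GP)

theorem three_part_eleven : ¬ 2187 ∣ ∏ i : Fin 11, (2 ^ 11 - 2 ^ (i : ℕ)) := by decide +kernel

theorem v_add_self {V : Type*} [AddCommGroup V] [Module (ZMod 2) V] (v : V) : v + v = 0 := by
  rw [← two_smul (ZMod 2), show (2 : ZMod 2) = 0 from by decide, zero_smul]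

/-- Linear actions as homomorphisms to matrices. -/
noncomputable def toGL {V : Type*} [AddCommGroup V] [Module (ZMod 2) V] {A : Type*} [Group A] {m : ℕ}
    (b : Module.Basis (Fin m) (ZMod 2) V) (α : A →* Module.End (ZMod 2) V) : A →* GL (Fin m) (ZMod 2) :=
  ((LinearMap.toMatrixAlgEquiv b).toAlgHom.toMonoidHom.comp α).toHomUnits

theorem toGL_eq_one {V : Type*} [AddCommGroup V] [Module (ZMod 2) V] {A : Type*} [Group A] {m : ℕ}
    (b : Module.Basis (Fin m) (ZMod 2) V) (α : A →* Module.End (ZMod 2) V) {a : A}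
    (h : toGL b α a = 1) : α a = 1 :=
  (LinearMap.toMatrixAlgEquiv b).injective
    ((congrArg Units.val h).trans (map_one (LinearMap.toMatrixAlgEquiv b)).symm)

/-- The restriction of an action to an invariant submodule. -/
def restrictEnd {V : Type*} [AddCommGroup V] [Module (ZMod 2) V] {A : Type*} [Group A]
    (ρ : A →* Module.End (ZMod 2) V) (W : Submodule (ZMod 2) V) (h : ∀ a, ∀ w ∈ W, ρ a w ∈ W) :
    A →* Module.End (ZMod 2) W where
  toFun a := (ρ a).restrict (h a)
  map_one' := LinearMap.ext fun w => Subtype.ext (by simp)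
  map_mul' a b := LinearMap.ext fun w => Subtype.ext (by simp [map_mul])

theorem restrictEnd_apply {V : Type*} [AddCommGroup V] [Module (ZMod 2) V] {A : Type*} [Group A]
    (ρ : A →* Module.End (ZMod 2) V) (W : Submodule (ZMod 2) V) (h : ∀ a, ∀ w ∈ W, ρ a w ∈ W)
    (a : A) (w : W) : ((restrictEnd ρ W h a w : W) : V) = ρ a w := rfl

/-- The central element of order three acts without fixed points. -/
theorem fpf [IsSimpleGroup GP] {V : Type*} [AddCommGroup V] [Module (ZMod 2) V]
    [Module.Finite (ZMod 2) V] (hV : Module.finrank (ZMod 2) V = 12) {A : Type*} [Group A]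
    (π : A →* GP) (hπ : Function.Surjective π) (x : A) (hx3 : orderOf x = 3)
    (hker : π.ker = Subgroup.zpowers x) (hcomm : ∀ a, a * x = x * a)
    (ρ : A →* Module.End (ZMod 2) V) (hinj : Function.Injective ρ) :
    ∀ v, ρ x v = v → v = 0 := by
  haveI : Fact (Nat.Prime 2) := ⟨Nat.prime_two⟩
  set X := ρ x with hX
  have hx1 : x ≠ 1 := fun e => by rw [e, orderOf_one] at hx3; omega
  have hX3 : ∀ v, X (X (X v)) = v := fun v => by
    rw [← Module.End.mul_apply, ← Module.End.mul_apply, hX, ← map_mul, ← map_mul,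
      show x * x * x = 1 from by rw [← pow_three', ← hx3, pow_orderOf_eq_one], map_one,
      Module.End.one_apply]
  let W : Submodule (ZMod 2) V := LinearMap.ker (X + 1)
  let U : Submodule (ZMod 2) V := LinearMap.ker (X * X + X + 1)
  have hW : ∀ v, v ∈ W ↔ X v = v := fun v => by
    simp only [W, LinearMap.mem_ker, LinearMap.add_apply, Module.End.one_apply]
    exact ⟨fun h => (eq_neg_of_add_eq_zero_left h).trans (neg_eq_of_add_eq_zero_left (v_add_self v)),
      fun h => by rw [h, v_add_self]⟩
  have hU : ∀ v, v ∈ U ↔ X (X v) + X v + v = 0 := fun v => by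
    simp [U, LinearMap.mem_ker]
  have hco : ∀ a v, X (ρ a v) = ρ a (X v) := fun a v => by
    rw [hX, ← Module.End.mul_apply, ← Module.End.mul_apply, ← map_mul, ← map_mul, hcomm]
  have hWi : ∀ a, ∀ w ∈ W, ρ a w ∈ W := fun a w hw => by
    rw [hW] at hw ⊢; rw [hco a, hw]
  have hUi : ∀ a, ∀ w ∈ U, ρ a w ∈ U := fun a w hw => by
    rw [hU] at hw ⊢; rw [hco a, hco a, ← map_add (ρ a), ← map_add (ρ a), hw, map_zero]
  have hcompl : IsCompl W U := by
    constructor
    · rw [Submodule.disjoint_def]
      intro v h1 h2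
      rw [hW] at h1
      rw [hU, h1, h1, v_add_self, zero_add] at h2
      exact h2
    · rw [codisjoint_iff, eq_top_iff]
      intro v _
      rw [show v = (v + X v + X (X v)) + (X v + X (X v)) by
        rw [show v + X v + X (X v) + (X v + X (X v)) = v + (X v + X v) + (X (X v) + X (X v)) by abel,
          v_add_self (X v), v_add_self (X (X v)), add_zero, add_zero]]
      refine Submodule.add_mem_sup ?_ ?_
      · rw [hW]; simp only [map_add, hX3]; abel
      · rw [hU]; simp only [map_add, hX3]
        rw [show v + X v + (X (X v) + v) + (X v + X (X v)) =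
          (v + v) + (X v + X v) + (X (X v) + X (X v)) by abel, v_add_self v, v_add_self (X v),
          v_add_self (X (X v)), add_zero, add_zero]
  have hdim := Submodule.finrank_add_eq_of_isCompl hcompl
  rw [hV] at hdim
  intro v hv
  by_contra hv0
  have hWpos : 0 < Module.finrank (ZMod 2) W := by
    refine Module.finrank_pos_iff_exists_ne_zero.2 ⟨⟨v, (hW v).2 hv⟩, fun e => hv0 ?_⟩
    exact congrArg Subtype.val e
  -- a vector moved by the element of order three
  obtain ⟨u, hu, hu0⟩ : ∃ u ∈ U, u ≠ 0 := by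
    by_contra hall
    push Not at hall
    refine hx1 (hinj ?_)
    rw [map_one]
    refine LinearMap.ext fun w => ?_
    obtain ⟨a, ha, c, hc, rfl⟩ := Submodule.mem_sup.1
      (hcompl.sup_eq_top ▸ Submodule.mem_top : w ∈ W ⊔ U)
    rw [hall c hc, add_zero]
    exact (hW a).1 ha
  have hXu : X u ∈ U := hUi x u hu
  have hXu0 : X u ≠ 0 := fun e => hu0 (by rw [← hX3 u, e, map_zero, map_zero])
  have hXuu : X u ≠ u := fun e => hu0 ((Submodule.disjoint_def.1 hcompl.disjoint) u ((hW u).2 e) hu)
  have hU2 : 1 < Module.finrank (ZMod 2) U := by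
    by_contra hle
    have h4 : Nat.card U ≤ 2 := by
      rw [Module.natCard_eq_pow_finrank (K := ZMod 2) (V := U), Nat.card_zmod]
      calc (2 : ℕ) ^ Module.finrank (ZMod 2) U ≤ 2 ^ 1 := Nat.pow_le_pow_right (by norm_num) (by omega)
        _ = 2 := pow_one 2
    haveI : Finite U := Module.finite_of_finite (ZMod 2)
    have hf : Function.Injective (![0, ⟨u, hu⟩, ⟨X u, hXu⟩] : Fin 3 → U) := by
      intro i j e
      fin_cases i <;> fin_cases j <;>
        first
        | rfl
        | exact absurd (congrArg Subtype.val e) (by simp [hu0, hXu0, hXuu, Ne.symm hu0, Ne.symm hXu0, Ne.symm hXuu])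
    have := Nat.card_le_card_of_injective _ hf
    rw [Nat.card_fin] at this
    omega
  let bW := Module.finBasis (ZMod 2) W
  let bU := Module.finBasis (ZMod 2) U
  let α := restrictEnd ρ W hWi
  let β := restrictEnd ρ U hUi
  have hαx : α x = 1 := LinearMap.ext fun w => Subtype.ext ((hW w).1 w.2)
  have hα : ∀ a, α a = 1 := by
    intro a
    refine toGL_eq_one bW α ?_
    have hle : π.ker ≤ (toGL bW α).ker := by
      rw [hker, Subgroup.zpowers_le, MonoidHom.mem_ker]
      refine Units.ext ?_
      show LinearMap.toMatrixAlgEquiv bW (α x) = 1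
      rw [hαx, map_one]
    have h1 := hom_eq_one (n := Module.finrank (ZMod 2) W) (by omega)
      ((π.liftOfSurjective hπ) ⟨toGL bW α, hle⟩)
    have h2 := MonoidHom.liftOfRightInverse_comp_apply π _ (Function.rightInverse_surjInv hπ)
      ⟨toGL bW α, hle⟩ a
    exact h2.symm.trans (DFunLike.congr_fun h1 (π a))
  have hsep : ∀ a, β a = 1 → a = 1 := fun a ha => hinj (by
    rw [map_one]
    refine LinearMap.ext fun w => ?_
    obtain ⟨p, hp, c, hc, rfl⟩ := Submodule.mem_sup.1
      (hcompl.sup_eq_top ▸ Submodule.mem_top : w ∈ W ⊔ U)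
    rw [map_add, Module.End.one_apply]
    congr 1
    · exact congrArg Subtype.val (LinearMap.congr_fun (hα a) ⟨p, hp⟩)
    · exact congrArg Subtype.val (LinearMap.congr_fun ha ⟨c, hc⟩))
  have hUinj : Function.Injective (toGL bU β) :=
    (injective_iff_map_eq_one _).2 fun a ha => hsep a (toGL_eq_one bU β ha)
  have hAcard : Nat.card A = 3 * Nat.card GP := by
    rw [← π.ker.card_mul_index, Subgroup.index,
      Nat.card_congr (QuotientGroup.quotientKerEquivOfSurjective π hπ).toEquiv, hker, Nat.card_zpowers, hx3]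
  have hd : 2187 ∣ Nat.card (GL (Fin (Module.finrank (ZMod 2) U)) (ZMod 2)) := by
    have : 2187 ∣ Nat.card A := by rw [hAcard, card_GP]; norm_num
    exact this.trans (Subgroup.card_dvd_of_injective _ hUinj)
  rcases Nat.lt_or_ge (Module.finrank (ZMod 2) U) 11 with h | h
  · exact not_dvd_GL (by omega) hd
  · rw [show Module.finrank (ZMod 2) U = 11 by omega, gl_card] at hd
    exact three_part_eleven hd

end CfsgLib.ClassK.FiCoord
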