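import Cfsg.Agent.Lib.ClassK.FiCoord.Space
import Cfsg.Agent.Lib.ClassK.FiCoord.Fpf

/-!
A faithful action of a triple cover of `GP` with fixed-point-free centre: after a change of
coordinates it is one of the three subgroups `K b`.
-/

set_option autoImplicit false
set_option maxRecDepth 100000

namespace CfsgLib.ClassK.FiCoord

open Matrix CfsgLib.Chev.U43U6 CfsgLib.Trans3.FiLarge CfsgLib.Trans3.ExtraTwo
open CfsgLib.KnownA.U4ThreeSchur (GP card_GP)

theorem z2_all : ∀ a : F4, a = 0 ∨ a = 1 ∨ a = om ∨ a = om ^ 2 := io_facts.2.2.2.2.2.2.1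

/-- Additive maps twisting `om` are semilinear. -/
theorem smul_of_om {V : Type*} [AddCommGroup V] [Module F4 V] (e : ℕ) (he : e ≠ 0) (f : V →+ V)
    (h : ∀ v, f (om • v) = om ^ e • f v) (a : F4) (v : V) : f (a • v) = a ^ e • f v := by
  rcases z2_all a with rfl | rfl | rfl | rfl
  · rw [zero_smul, map_zero, zero_pow he, zero_smul]
  · rw [one_smul, one_pow, one_smul]
  · exact h v
  · rw [pow_two, mul_smul, h, h, ← mul_smul, mul_pow]

theorem GP_noncomm [IsSimpleGroup GP] {M : Type*} [CommGroup M] [Finite M] (f : GP →* M) : f = 1 := by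
  rcases f.normal_ker.eq_bot_or_eq_top with hb | ht
  · exfalso
    have hinj := f.ker_eq_bot_iff.1 hb
    have htop : Subgroup.center GP = ⊤ := eq_top_iff.2 fun x _ => Subgroup.mem_center_iff.2 fun y =>
      hinj (by rw [map_mul, map_mul, mul_comm])
    rw [center_GP] at htop
    exact bot_ne_top htop
  · exact MonoidHom.ext fun x => MonoidHom.mem_ker.1 (ht ▸ Subgroup.mem_top x)

set_option maxHeartbeats 1000000 in
theorem exists_coords [IsSimpleGroup GP] (t : Fin 6 → Bool) {A : Type*} [Group A] [Finite A]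
    (π : A →* GP) (hπ : Function.Surjective π) (x : A) (hx3 : orderOf x = 3)
    (hker : π.ker = Subgroup.zpowers x) (hcomm : ∀ a, a * x = x * a)
    (ρ : A →* Module.End (ZMod 2) (Sp 6)) (hinj : Function.Injective ρ)
    (hq : ∀ a v, beta t (ρ a v) (ρ a v) = beta t v v) :
    ∃ (b : Fin 3) (pr : Sp 6 →+ V6) (act : A →* GS F4), Function.Bijective pr ∧
      Function.Injective act ∧ act.range = K b ∧ (∀ a v, pr (ρ a v) = mat (act a) *ᵥ pr v) ∧
      (∀ v, beta t v v = 0 ↔ herm6 (pr v) (pr v) = 0) ∧ (∀ v, pr (ρ x v) = om • pr v) ∧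
      ∀ v u, herm6 (pr v) (pr u) = hh (ρ x) v u := by
  haveI : Fact (Nat.Prime 2) := ⟨Nat.prime_two⟩
  have hV : Module.finrank (ZMod 2) (Sp 6) = 12 := by
    have h := Module.natCard_eq_pow_finrank (K := ZMod 2) (V := Sp 6)
    rw [Nat.card_eq_fintype_card, Nat.card_zmod,
      show Fintype.card (Sp 6) = 2 ^ 12 by simp [Fintype.card_prod, ZMod.card]] at h
    exact (Nat.pow_right_injective (le_refl 2) h).symm
  have hfix := fpf hV π hπ x hx3 hker hcomm ρ hinj
  set σ : Sp 6 →+ Sp 6 := (ρ x).toAddMonoidHom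
  have hσ3 : ∀ v, σ (σ (σ v)) = v := fun v => by
    show ρ x (ρ x (ρ x v)) = v
    rw [← Module.End.mul_apply, ← Module.End.mul_apply, ← map_mul, ← map_mul,
      show x * x * x = 1 from by rw [← pow_three', ← hx3, pow_orderOf_eq_one], map_one,
      Module.End.one_apply]
  obtain ⟨pr, hpr, hom, hsq, hherm⟩ := exists_pr t σ hσ3 hfix (hq x)
  let P : Sp 6 ≃+ V6 := AddEquiv.ofBijective pr hpr
  have hP : ∀ v, P v = pr v := fun _ => rfl
  have halt : ∀ a v u, alt (ρ a v) (ρ a u) = alt v u := fun a v u => by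
    have h := hq a (v + u)
    rw [map_add, beta_add_self, beta_add_self, hq, hq] at h
    exact add_left_cancel h
  have hcs : ∀ a v, ρ a (σ v) = σ (ρ a v) := fun a v => by
    show ρ a (ρ x v) = ρ x (ρ a v)
    rw [← Module.End.mul_apply, ← map_mul, hcomm, map_mul, Module.End.mul_apply]
  let f : A → V6 →ₗ[F4] V6 := fun a =>
    { toFun := fun w => pr (ρ a (P.symm w))
      map_add' := fun u w => by simp
      map_smul' := fun c w => by
        have h := smul_of_om 1 one_ne_zero (AddMonoidHom.mk' (fun w => pr (ρ a (P.symm w)))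
          (fun u w => by simp)) (fun w => by
            show pr (ρ a (P.symm (om • w))) = om ^ 1 • pr (ρ a (P.symm w))
            obtain ⟨v, rfl⟩ := P.surjective w
            rw [pow_one, P.symm_apply_apply, hP v, ← hom, ← hP (σ v), P.symm_apply_apply, hcs, hom]) c w
        rw [pow_one] at h
        exact h }
  let L : A →* Matrix (Fin 6) (Fin 6) F4 :=
    { toFun := fun a => LinearMap.toMatrix' (f a)
      map_one' := by
        rw [show f 1 = LinearMap.id from LinearMap.ext fun w => by
          show pr (ρ 1 (P.symm w)) = w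
          rw [map_one, Module.End.one_apply, ← hP, P.apply_symm_apply], LinearMap.toMatrix'_id]
      map_mul' := fun a b => by
        rw [← LinearMap.toMatrix'_comp]
        congr 1
        refine LinearMap.ext fun w => ?_
        show pr (ρ (a * b) (P.symm w)) = pr (ρ a (P.symm (pr (ρ b (P.symm w)))))
        rw [← hP (ρ b _), P.symm_apply_apply, map_mul, Module.End.mul_apply] }
  have hL : ∀ a v, L a *ᵥ pr v = pr (ρ a v) := fun a v => by
    show LinearMap.toMatrix' (f a) *ᵥ _ = _
    rw [LinearMap.toMatrix'_mulVec]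
    show pr (ρ a (P.symm (pr v))) = _
    rw [← hP v, P.symm_apply_apply]
  let d : A →* F4ˣ := ((Matrix.detMonoidHom : Matrix (Fin 6) (Fin 6) F4 →* F4).comp L).toHomUnits
  have hLx : L x = om • (1 : Matrix (Fin 6) (Fin 6) F4) := by
    refine Matrix.ext_of_mulVec_single fun k => ?_
    obtain ⟨v, hv⟩ := hpr.2 (Pi.single k 1)
    rw [← hv, hL, Matrix.smul_mulVec, Matrix.one_mulVec]
    exact hom v
  have hdx : d x = 1 := by
    refine Units.ext ?_
    show (L x).det = 1
    rw [hLx, Matrix.det_smul, Matrix.det_one, mul_one, Fintype.card_fin]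
    decide +kernel
  have hd : ∀ a, (L a).det = 1 := by
    intro a
    have hle : π.ker ≤ d.ker := by rw [hker, Subgroup.zpowers_le]; exact hdx
    have h1 := GP_noncomm ((π.liftOfSurjective hπ) ⟨d, hle⟩)
    have h2 := MonoidHom.liftOfRightInverse_comp_apply π _ (Function.rightInverse_surjInv hπ) ⟨d, hle⟩ a
    exact congrArg Units.val (h2.symm.trans (DFunLike.congr_fun h1 (π a)))
  have hLh : ∀ a u w, herm6 (L a *ᵥ u) (L a *ᵥ w) = herm6 u w := fun a u w => by
    obtain ⟨u, rfl⟩ := hpr.2 u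
    obtain ⟨w, rfl⟩ := hpr.2 w
    rw [hL, hL, hherm, hherm, hh, hh, ← hcs, ← hcs, halt, halt]
  let a0 : A →* GS F4 :=
    { toFun := fun a => ⟨⟨L a, hd a⟩, hLh a⟩
      map_one' := Subtype.ext (Subtype.ext (map_one L))
      map_mul' := fun a b => Subtype.ext (Subtype.ext (map_mul L a b)) }
  have ha0 : Function.Injective a0 := (injective_iff_map_eq_one _).2 fun a ha => hinj (by
    rw [map_one]
    refine LinearMap.ext fun v => hpr.1 ?_
    rw [← hL, show L a = 1 from congrArg (fun g : GS F4 => mat g) ha, Matrix.one_mulVec,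
      Module.End.one_apply])
  let φ : A ≃* a0.range := MonoidHom.ofInjective ha0
  set π' : a0.range →* GP := π.comp φ.symm.toMonoidHom
  have hπ' : Function.Surjective π' := hπ.comp φ.symm.surjective
  have hcA : Subgroup.center A = π.ker := by
    refine le_antisymm (fun c hc => ?_) ?_
    · rw [MonoidHom.mem_ker, ← Subgroup.mem_bot, ← center_GP, Subgroup.mem_center_iff]
      intro y
      obtain ⟨y, rfl⟩ := hπ y
      rw [← map_mul, ← map_mul, Subgroup.mem_center_iff.1 hc y]
    · rw [hker, Subgroup.zpowers_le]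
      exact Subgroup.mem_center_iff.2 hcomm
  have hker' : π'.ker = Subgroup.center a0.range := by
    ext y
    obtain ⟨a, rfl⟩ := φ.surjective y
    rw [MonoidHom.mem_ker, show π' (φ a) = π a from congrArg π (φ.symm_apply_apply a), ← MonoidHom.mem_ker,
      ← hcA, Subgroup.mem_center_iff, Subgroup.mem_center_iff]
    refine ⟨fun h w => ?_, fun h w => φ.injective (by rw [map_mul, map_mul]; exact h (φ w))⟩
    obtain ⟨w, rfl⟩ := φ.surjective w
    rw [← map_mul, ← map_mul, h w]
  have hc3 : Nat.card (Subgroup.center a0.range) = 3 := by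
    rw [← Nat.card_congr (Subgroup.centerCongr φ).toEquiv, hcA, hker, Nat.card_zpowers, hx3]
  obtain ⟨g, b, hb⟩ := exists_conj_Kb isOmega_om card_F4 (H := a0.range) hc3
    ((QuotientGroup.quotientMulEquivOfEq hker'.symm).trans
      (QuotientGroup.quotientKerEquivOfSurjective π' hπ'))
  have hg1 : mat g⁻¹ * mat g = 1 :=
    congrArg (fun y : GS F4 => mat y) (inv_mul_cancel g)
  have hginj : Function.Injective fun w : V6 => mat g *ᵥ w := fun u w h => by
    have h' := congrArg (fun y => mat g⁻¹ *ᵥ y) h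
    simpa [Matrix.mulVec_mulVec, hg1] using h'
  refine ⟨b, AddMonoidHom.mk' (fun v => mat g *ᵥ pr v) (fun u v => by
      rw [map_add, Matrix.mulVec_add]),
    (MulAut.conj g).toMonoidHom.comp a0, ?_, (MulAut.conj g).injective.comp ha0, ?_, fun a v => ?_,
    fun v => ?_, fun v => ?_, fun v u => ?_⟩
  · exact ⟨hginj.comp hpr.1, (Finite.injective_iff_surjective.1 hginj).comp hpr.2⟩
  · rw [MonoidHom.range_comp]; exact hb
  · show mat g *ᵥ pr (ρ a v) = mat (g * a0 a * g⁻¹) *ᵥ (mat g *ᵥ pr v)
    rw [← hL, Matrix.mulVec_mulVec, Matrix.mulVec_mulVec]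
    congr 1
    show mat g * mat (a0 a) = mat (g * a0 a * g⁻¹) * mat g
    exact congrArg (fun y : GS F4 => mat y) (inv_mul_cancel_right (g * a0 a) g).symm
  · show _ ↔ herm6 (mat g *ᵥ pr v) (mat g *ᵥ pr v) = 0
    rw [hsq v, show herm6 (mat g *ᵥ pr v) (mat g *ᵥ pr v) = herm6 (pr v) (pr v) from g.2 _ _]
  · show mat g *ᵥ pr (ρ x v) = om • (mat g *ᵥ pr v)
    rw [show pr (ρ x v) = om • pr v from hom v, Matrix.mulVec_smul]
  · show herm6 (mat g *ᵥ pr v) (mat g *ᵥ pr u) = _
    rw [show herm6 (mat g *ᵥ pr v) (mat g *ᵥ pr u) = herm6 (pr v) (pr u) from g.2 _ _]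
    exact hherm v u

end CfsgLib.ClassK.FiCoord
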