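import Cfsg.Agent.Lib.Trans3.FiLarge.Coord

/-!
The group `GP ≅ PSU₄(3)` has no abelian subgroup of order 243, hence no nontrivial representation
of dimension at most ten over the field with two elements.
-/

set_option autoImplicit false
set_option maxRecDepth 100000
set_option linter.unusedSectionVars false

namespace CfsgLib.ClassK.FiCoord

open Matrix CfsgLib.Chev.U43U6 CfsgLib.Trans3.FiLarge
open CfsgLib.KnownA.U4ThreeSchur (GP card_GP)

/-- The exponent of a nonzero element. -/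
def lg (a : F4) : ZMod 3 := (![0, 0, 1, 2] : Fin 4 → ZMod 3) a.v

theorem lg_facts : (∀ a b : F4, a ≠ 0 → b ≠ 0 → lg (a * b) = lg a + lg b) ∧
    (∀ a b : F4, a ≠ 0 → b ≠ 0 → lg a = lg b → a = b) ∧ lg 1 = 0 := by decide +kernel

theorem lg_prod {ι : Type} (s : Finset ι) (f : ι → F4) (h : ∀ i ∈ s, f i ≠ 0) :
    lg (∏ i ∈ s, f i) = ∑ i ∈ s, lg (f i) := by
  classical
  induction s using Finset.induction_on with
  | empty => simpa using lg_facts.2.2
  | insert a s ha ih =>
    rw [Finset.prod_insert ha, Finset.sum_insert ha, lg_facts.1 _ _ (h a (Finset.mem_insert_self _ _))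
      (Finset.prod_ne_zero_iff.2 fun i hi => h i (Finset.mem_insert_of_mem hi)),
      ih fun i hi => h i (Finset.mem_insert_of_mem hi)]

/-- A pattern as a map on the six indices. -/
def patF (i : Fin 9) (k : Fin 6) : Fin 6 := ⟨pat i k, pat_lt i i.2 k k.2⟩

theorem count_check : ∀ i : Fin 9, i ≠ 0 → (Finset.univ.filter fun d : Fin 6 → ZMod 3 =>
    (∑ k, d k) = 0 ∧ ∃ a : ZMod 3, ∀ k : Fin 6, d (patF i k) = a + d k).card ≤ 27 := by
  decide +kernel

theorem card_Tgp_ge : 243 ≤ Nat.card (Tgp isOmega_om card_F4) := by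
  let f : Fin 243 → Tgp isOmega_om card_F4 := fun s =>
    ⟨diagEl isOmega_om card_F4 s, diagEl_mem isOmega_om card_F4 s.2⟩
  have hf : Function.Injective f := fun s t e =>
    Fin.ext (diagEl_inj isOmega_om card_F4 s.2 t.2 (congrArg Subtype.val e))
  simpa using Nat.card_le_card_of_injective f hf

/-- The diagonal part meets a subgroup with scalar commutators in at most 27 elements, if that
subgroup is not diagonal. -/
theorem card_inf_Tgp_le {X : Subgroup (GS F4)} (hX : X ≤ Sgp isOmega_om card_F4)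
    (hcomm : ∀ x ∈ X, ∀ y ∈ X, IsScal (x * y * x⁻¹ * y⁻¹)) (hne : ¬ X ≤ Tgp isOmega_om card_F4) :
    Nat.card (X ⊓ Tgp isOmega_om card_F4 : Subgroup (GS F4)) ≤ 27 := by
  classical
  obtain ⟨x, hxX, hxT⟩ := SetLike.not_le_iff_exists.1 hne
  obtain ⟨i, hi, hx⟩ := hX hxX
  have hi0 : (⟨i, hi⟩ : Fin 9) ≠ 0 := by
    intro e
    have e' : i = 0 := congrArg Fin.val e
    subst e'
    refine hxT fun k => ?_
    have e : pat 0 k = k := by revert k; decide +kernel
    rw [hx k, e]; rfl
  have hxM : x ∈ Mono isOmega_om card_F4 := hx.mem isOmega_om card_F4 hi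
  refine le_trans ?_ (count_check ⟨i, hi⟩ hi0)
  rw [← Nat.card_eq_finsetCard]
  have hmem : ∀ t : ↥(X ⊓ Tgp isOmega_om card_F4), (fun k => lg (colScal (t : GS F4) k)) ∈
      Finset.univ.filter fun d : Fin 6 → ZMod 3 =>
        (∑ k, d k) = 0 ∧ ∃ a : ZMod 3, ∀ k : Fin 6, d (patF ⟨i, hi⟩ k) = a + d k := by
    intro t
    have htT : (t : GS F4) ∈ Tgp isOmega_om card_F4 := t.2.2
    have htM := Sgp_le_Mono isOmega_om card_F4 (Tgp_le_Sgp isOmega_om card_F4 htT)
    have hdiag : mat (t : GS F4) = Matrix.diagonal fun k => colScal (t : GS F4) k := by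
      ext r k
      rw [col_eq isOmega_om card_F4 (g := (t : GS F4)) (k := k) (l := k) (Fin.ext (htT k)) r,
        Matrix.diagonal_apply]
      by_cases h : r = k <;> simp [h]
    refine Finset.mem_filter.2 ⟨Finset.mem_univ _, ?_, ?_⟩
    · rw [← lg_prod _ _ fun k _ => colScal_ne isOmega_om card_F4 htM k, ← Matrix.det_diagonal, ← hdiag,
        show (mat (t : GS F4)).det = 1 from (t : GS F4).1.2, lg_facts.2.2]
    · obtain ⟨a, ha⟩ := hcomm x hxX (t : GS F4) t.2.1
      have ha0 : a ≠ 0 := by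
        rintro rfl
        have := congrArg Matrix.det ha
        rw [zero_smul, Matrix.det_zero, show (mat (x * (t : GS F4) * x⁻¹ * (t : GS F4)⁻¹)).det = 1 from
          (x * (t : GS F4) * x⁻¹ * (t : GS F4)⁻¹).1.2] at this
        exact one_ne_zero this
      have hxt : mat x * mat (t : GS F4) = a • (mat (t : GS F4) * mat x) := by
        have e1 : mat (x * (t : GS F4) * x⁻¹ * (t : GS F4)⁻¹) * mat ((t : GS F4) * x) =
            mat (x * (t : GS F4)) := by
          show ((x * (t : GS F4) * x⁻¹ * (t : GS F4)⁻¹ * ((t : GS F4) * x) : GS F4).1 :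
            Matrix (Fin 6) (Fin 6) F4) = _
          rw [show x * (t : GS F4) * x⁻¹ * (t : GS F4)⁻¹ * ((t : GS F4) * x) = x * (t : GS F4) by group]
        rw [ha, smul_mul_assoc, one_mul] at e1
        exact e1.symm
      refine ⟨-lg a, fun k => ?_⟩
      set l : Fin 6 := patF ⟨i, hi⟩ k
      have hl : act isOmega_om card_F4 x (uF k) = uF l := hx.act_eq' isOmega_om card_F4 hi k
      have h := congrFun (congrFun hxt l) k
      rw [hdiag] at h
      rw [Matrix.mul_diagonal, Matrix.smul_apply, Matrix.diagonal_mul,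
        col_eq isOmega_om card_F4 hl l, if_pos rfl, smul_eq_mul] at h
      have hc := colScal_ne isOmega_om card_F4 hxM k
      have h' : colScal (t : GS F4) k = a * colScal (t : GS F4) l :=
        mul_left_cancel₀ hc (h.trans (by ring))
      show lg (colScal (t : GS F4) l) = -lg a + lg (colScal (t : GS F4) k)
      rw [h', lg_facts.1 _ _ ha0 (colScal_ne isOmega_om card_F4 htM l)]
      ring
  refine Nat.card_le_card_of_injective (fun t => ⟨_, hmem t⟩) fun s t e => ?_
  refine Subtype.ext ?_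
  have hs : (s : GS F4) ∈ Tgp isOmega_om card_F4 := s.2.2
  have ht : (t : GS F4) ∈ Tgp isOmega_om card_F4 := t.2.2
  refine mono_ext isOmega_om card_F4 (Sgp_le_Mono isOmega_om card_F4 (Tgp_le_Sgp isOmega_om card_F4 hs))
    (fun k => Fin.ext ((hs k).trans (ht k).symm)) fun k _ => ?_
  exact lg_facts.2.1 _ _
    (colScal_ne isOmega_om card_F4 (Sgp_le_Mono isOmega_om card_F4 (Tgp_le_Sgp isOmega_om card_F4 hs)) k)
    (colScal_ne isOmega_om card_F4 (Sgp_le_Mono isOmega_om card_F4 (Tgp_le_Sgp isOmega_om card_F4 ht)) k)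
    (congrFun (congrArg Subtype.val e) k)

/-- `GP` has no abelian subgroup of order 243. -/
theorem no_abelian (R : Subgroup GP) (hR : ∀ x ∈ R, ∀ y ∈ R, x * y = y * x) : Nat.card R ≠ 243 := by
  intro hcard
  haveI : Fact (Nat.Prime 3) := ⟨Nat.prime_three⟩
  set π := toGP isOmega_om card_F4 0
  have hπ := toGP_surjective isOmega_om card_F4 0
  set P : Subgroup (GS F4) := (R.comap π).map (Kb isOmega_om card_F4 0).subtype
  have hPcard : Nat.card P = 729 := by
    have h1 := (R.comap π).card_mul_index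
    rw [Subgroup.index_comap_of_surjective _ hπ, card_Kb] at h1
    have h2 := R.card_mul_index
    rw [card_GP, hcard] at h2
    have h3 : Nat.card P = Nat.card (R.comap π) :=
      (Nat.card_congr ((R.comap π).equivMapOfInjective _ (Subgroup.subtype_injective _)).toEquiv).symm
    have h4 : R.index = 13440 := by omega
    rw [h4] at h1
    omega
  have hPcomm : ∀ x ∈ P, ∀ y ∈ P, IsScal (x * y * x⁻¹ * y⁻¹) := by
    rintro _ ⟨u, hu, rfl⟩ _ ⟨v, hv, rfl⟩
    have hk : u * v * u⁻¹ * v⁻¹ ∈ π.ker := by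
      rw [MonoidHom.mem_ker, map_mul, map_mul, map_mul, map_inv, map_inv, hR _ hu _ hv,
        mul_inv_cancel_right, mul_inv_cancel]
    rw [ker_toGP, Subgroup.mem_subgroupOf] at hk
    exact hk
  obtain ⟨S, hS⟩ := (IsPGroup.of_card (p := 3) (n := 6) (by rw [hPcard]; rfl) :
    IsPGroup 3 P).exists_le_sylow
  obtain ⟨Q0, hQ0⟩ := (isPGroup_Sgp isOmega_om card_F4).exists_le_sylow
  obtain ⟨g, hg⟩ := MulAction.exists_smul_eq (GS F4) S Q0
  have hQS : (Q0 : Subgroup (GS F4)) = Sgp isOmega_om card_F4 := by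
    refine (Subgroup.eq_of_le_of_card_ge hQ0 ?_).symm
    obtain ⟨n, hn⟩ := IsPGroup.iff_card.1 Q0.isPGroup'
    have hd : 3 ^ n ∣ 27590492160 :=
      card_GS isOmega_om card_F4 ▸ hn ▸ Subgroup.card_subgroup_dvd_card (Q0 : Subgroup (GS F4))
    have : n ≤ 7 := by
      by_contra hc
      have h8 : 3 ^ 8 ∣ 27590492160 := (pow_dvd_pow 3 (show 8 ≤ n by omega)).trans hd
      norm_num at h8
    rw [hn, card_Sgp]
    exact (Nat.pow_le_pow_right (by norm_num) this).trans (by norm_num)
  set X : Subgroup (GS F4) := P.map (MulAut.conj g).toMonoidHom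
  have hX : X ≤ Sgp isOmega_om card_F4 := by
    rw [← hQS, ← hg, Sylow.coe_subgroup_smul]
    exact Subgroup.map_mono hS
  have hXcard : Nat.card X = 729 := by
    rw [← hPcard]
    exact (Nat.card_congr (P.equivMapOfInjective _ (MulAut.conj g).injective).toEquiv).symm
  have hXcomm : ∀ x ∈ X, ∀ y ∈ X, IsScal (x * y * x⁻¹ * y⁻¹) := by
    rintro _ ⟨u, hu, rfl⟩ _ ⟨v, hv, rfl⟩
    have hs := hPcomm u hu v hv
    rw [← map_inv, ← map_inv, ← map_mul, ← map_mul, ← map_mul]
    show IsScal (g * (u * v * u⁻¹ * v⁻¹) * g⁻¹)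
    rwa [← hs.comm g, mul_inv_cancel_right]
  have hne : ¬ X ≤ Tgp isOmega_om card_F4 := fun h => by
    have := (Subgroup.card_le_of_le h).trans (card_Tgp_le isOmega_om card_F4)
    omega
  have h27 := card_inf_Tgp_le hX hXcomm hne
  set T := Tgp isOmega_om card_F4
  have hrel : T.relIndex X ≤ T.relIndex (Sgp isOmega_om card_F4) :=
    Subgroup.relIndex_le_of_le_right hX Subgroup.index_ne_zero_of_finite
  have h1 : Nat.card (X ⊓ T : Subgroup (GS F4)) * T.relIndex X = 729 := by
    rw [← hXcard, ← (T.subgroupOf X).card_mul_index]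
    congr 1
    refine Nat.card_congr ?_
    exact
      { toFun := fun t => ⟨⟨t.1, t.2.1⟩, t.2.2⟩
        invFun := fun t => ⟨t.1.1, t.1.2, t.2⟩
        left_inv := fun _ => rfl
        right_inv := fun _ => rfl }
  have h2 : Nat.card T * T.relIndex (Sgp isOmega_om card_F4) = 2187 := by
    rw [← card_Sgp isOmega_om card_F4, ← (T.subgroupOf (Sgp isOmega_om card_F4)).card_mul_index,
      Nat.card_congr (Subgroup.subgroupOfEquivOfLe (Tgp_le_Sgp isOmega_om card_F4)).toEquiv]
    rfl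
  have hT : 243 ≤ Nat.card T := card_Tgp_ge
  have h9 : T.relIndex (Sgp isOmega_om card_F4) ≤ 9 := by
    by_contra hc
    have := Nat.mul_le_mul hT (show 10 ≤ T.relIndex (Sgp isOmega_om card_F4) by omega)
    omega
  have := Nat.mul_le_mul h27 (hrel.trans h9)
  omega

theorem gl_card (n : ℕ) :
    Nat.card (GL (Fin n) (ZMod 2)) = ∏ i : Fin n, (2 ^ n - 2 ^ (i : ℕ)) := by
  haveI : Fact (Nat.Prime 2) := ⟨Nat.prime_two⟩
  rw [Matrix.card_GL_field]
  simp [ZMod.card]

theorem three_part : (∀ n < 10, ¬ 729 ∣ ∏ i : Fin n, (2 ^ n - 2 ^ (i : ℕ))) ∧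
    ∀ n < 11, ¬ 2187 ∣ ∏ i : Fin n, (2 ^ n - 2 ^ (i : ℕ)) := by decide +kernel

/-- An element of order three of the general linear group of the plane. -/
def uTwo : Matrix (Fin 2) (Fin 2) (ZMod 2) := !![0, 1; 1, 1]

theorem uTwo_facts : (∀ a b : ZMod 3, uTwo ^ a.val * uTwo ^ b.val = uTwo ^ (a + b).val) ∧
    ∀ a b : ZMod 3, uTwo ^ a.val = uTwo ^ b.val → a = b := by decide +kernel

/-- Five commuting elements of order three in dimension ten. -/
theorem exists_abelian_GL : ∃ A : Subgroup (GL (Fin 10) (ZMod 2)),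
    Nat.card A = 243 ∧ ∀ x ∈ A, ∀ y ∈ A, x * y = y * x := by
  let f : Multiplicative (Fin 5 → ZMod 3) →* Matrix (Fin 10) (Fin 10) (ZMod 2) :=
    { toFun := fun d => Matrix.reindexAlgEquiv (ZMod 2) (ZMod 2) (finProdFinEquiv (m := 2) (n := 5))
        (Matrix.blockDiagonal fun i => uTwo ^ ((Multiplicative.toAdd d) i).val)
      map_one' := by
        simp only [toAdd_one, Pi.zero_apply, ZMod.val_zero, pow_zero]
        rw [show (fun _ : Fin 5 => (1 : Matrix (Fin 2) (Fin 2) (ZMod 2))) = 1 from rfl,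
          Matrix.blockDiagonal_one, map_one]
      map_mul' := fun d e => by
        rw [← map_mul, ← Matrix.blockDiagonal_mul]
        congr 2
        funext i
        rw [uTwo_facts.1, toAdd_mul, Pi.add_apply] }
  have hf : Function.Injective f := fun d e h => by
    have h' := Matrix.blockDiagonal_injective ((Matrix.reindexAlgEquiv (ZMod 2) (ZMod 2) finProdFinEquiv).injective h)
    exact Multiplicative.toAdd.injective (funext fun i => uTwo_facts.2 _ _ (congrFun h' i))
  refine ⟨f.toHomUnits.range, ?_, ?_⟩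
  · rw [Nat.card_congr (MonoidHom.ofInjective (f := f.toHomUnits) fun d e h =>
      hf (congrArg Units.val h)).toEquiv.symm]
    rw [Nat.card_congr Multiplicative.toAdd, Nat.card_fun, Nat.card_zmod, Nat.card_fin]
    norm_num
  · rintro _ ⟨d, rfl⟩ _ ⟨e, rfl⟩
    rw [← map_mul, ← map_mul, mul_comm]

/-- `GP` acts trivially in dimension at most ten. -/
theorem hom_eq_one [IsSimpleGroup GP] {n : ℕ} (hn : n ≤ 10) (φ : GP →* GL (Fin n) (ZMod 2)) : φ = 1 := by
  rcases φ.normal_ker.eq_bot_or_eq_top with hb | ht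
  swap
  · exact MonoidHom.ext fun x => MonoidHom.mem_ker.1 (ht ▸ Subgroup.mem_top x)
  exfalso
  have hinj := (φ.ker_eq_bot_iff).1 hb
  have hdvd : 729 ∣ Nat.card (GL (Fin n) (ZMod 2)) :=
    (by rw [card_GP]; norm_num : 729 ∣ Nat.card GP).trans (Subgroup.card_dvd_of_injective φ hinj)
  rw [gl_card] at hdvd
  rcases Nat.lt_or_eq_of_le hn with h | rfl
  · exact three_part.1 n h hdvd
  haveI : Fact (Nat.Prime 3) := ⟨Nat.prime_three⟩
  obtain ⟨P, hP⟩ := Sylow.exists_subgroup_card_pow_prime (G := GP) 3 (n := 6) (by rw [card_GP]; norm_num)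
  set P' := P.map φ
  have hP' : Nat.card P' = 729 := by
    rw [Nat.card_congr (P.equivMapOfInjective φ hinj).toEquiv.symm, hP]; norm_num
  obtain ⟨S, hS⟩ := (IsPGroup.of_card (p := 3) (n := 6) (by rw [hP']; rfl) : IsPGroup 3 P').exists_le_sylow
  have hS' : (S : Subgroup (GL (Fin 10) (ZMod 2))) = P' := by
    refine (Subgroup.eq_of_le_of_card_ge hS ?_).symm
    obtain ⟨m, hm⟩ := IsPGroup.iff_card.1 S.isPGroup'
    have hd : 3 ^ m ∣ ∏ i : Fin 10, (2 ^ 10 - 2 ^ (i : ℕ)) :=
      gl_card 10 ▸ hm ▸ Subgroup.card_subgroup_dvd_card (S : Subgroup (GL (Fin 10) (ZMod 2)))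
    have : m ≤ 6 := by
      by_contra hc
      exact three_part.2 10 (by norm_num) ((pow_dvd_pow 3 (show 7 ≤ m by omega)).trans hd)
    rw [hm, hP']
    exact (Nat.pow_le_pow_right (by norm_num) this).trans (by norm_num)
  obtain ⟨A, hA, hAc⟩ := exists_abelian_GL
  obtain ⟨T, hT⟩ := (IsPGroup.of_card (p := 3) (n := 5) (by rw [hA]; rfl) : IsPGroup 3 A).exists_le_sylow
  obtain ⟨g, hg⟩ := MulAction.exists_smul_eq (GL (Fin 10) (ZMod 2)) T S
  set A' := A.map (MulAut.conj g).toMonoidHom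
  have hA'P : A' ≤ φ.range := by
    refine le_trans ?_ (Subgroup.map_le_range φ P)
    show A' ≤ P'
    rw [← hS', ← hg, Sylow.coe_subgroup_smul]
    exact Subgroup.map_mono hT
  refine no_abelian (A'.comap φ) (fun x hx y hy => hinj ?_) ?_
  · obtain ⟨u, hu, eu⟩ := hx
    obtain ⟨v, hv, ev⟩ := hy
    rw [map_mul, map_mul, ← eu, ← ev, ← map_mul, ← map_mul, hAc u hu v hv]
  · rw [← hA, Nat.card_congr ((A'.comap φ).equivMapOfInjective φ hinj).toEquiv,
      Subgroup.map_comap_eq, inf_eq_right.2 hA'P]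
    exact (Nat.card_congr (A.equivMapOfInjective _ (MulAut.conj g).injective).toEquiv).symm

/-- No group with a subgroup of order `3 ^ 7` acts faithfully in dimension at most ten. -/
theorem not_dvd_GL {n : ℕ} (hn : n ≤ 10) : ¬ 2187 ∣ Nat.card (GL (Fin n) (ZMod 2)) := by
  rw [gl_card]
  exact three_part.2 n (by omega)

end CfsgLib.ClassK.FiCoord
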