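import Cfsg.Agent.Lib.Trans3.FiLarge.Coord
import Cfsg.Agent.Lib.Trans3.ExtraTwo
import Cfsg.Agent.Lib.Geom.GUEquiv

/-!
A fixed-point-free isometry of order three turns the quadratic space into a hermitian space over
four elements; coordinates for it.
-/

set_option autoImplicit false

namespace CfsgLib.ClassK.FiCoord

open CfsgLib.Trans3.ExtraTwo CfsgLib.Trans3.FiLarge

/-- The embedding of the two-element field. -/
def io (c : ZMod 2) : F4 := if c = 0 then 0 else 1

theorem io_facts : (∀ a b : ZMod 2, io (a + b) = io a + io b) ∧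
    (∀ a b : ZMod 2, io b + io (a + b) * om = om * (io a + io b * om)) ∧
    (∀ a b : ZMod 2, io (a + b) + io a * om = om ^ 2 * (io a + io b * om)) ∧
    (∀ a b : ZMod 2, io (a + b) + io b * om = (io a + io b * om) ^ 2) ∧
    (∀ a b : ZMod 2, io a + io b * om + (io a + io b * om) ^ 2 = 0 ↔ b = 0) ∧
    (∀ a b : ZMod 2, io a + io b * om = 0 ↔ a = 0 ∧ b = 0) ∧
    (∀ a : F4, a = 0 ∨ a = 1 ∨ a = om ∨ a = om ^ 2) ∧
    (∀ a : F4, a + a = 0) := by decide +kernel

theorem alt_add_left {n : ℕ} (u v w : Sp n) : alt (u + v) w = alt u w + alt v w := by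
  simp only [alt, Pi.add_apply, Prod.fst_add, Prod.snd_add, add_mul, ← Finset.sum_add_distrib]
  exact Finset.sum_congr rfl fun i _ => by ring

theorem alt_comm {n : ℕ} (u v : Sp n) : alt u v = alt v u := by
  simp only [alt]
  exact Finset.sum_congr rfl fun i _ => by ring

theorem alt_add_right {n : ℕ} (u v w : Sp n) : alt u (v + w) = alt u v + alt u w := by
  rw [alt_comm, alt_add_left, alt_comm v, alt_comm w]

theorem alt_zero_left {n : ℕ} (u : Sp n) : alt 0 u = 0 := by simp [alt]

theorem beta_add_self {n : ℕ} (t : Fin n → Bool) (u v : Sp n) :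
    beta t (u + v) (u + v) = beta t u u + beta t v v + alt u v := by
  rw [← beta_symm t, beta_add_left, beta_add_right, beta_add_right]
  ring

theorem card_F4' : Fintype.card F4 = 2 ^ 2 := card_F4

/-- The hermitian form attached to the map of order three. -/
def hh (σ : Sp 6 → Sp 6) (v u : Sp 6) : F4 := io (alt (σ (σ v)) u) + io (alt v u) * om

theorem exists_pr (t : Fin 6 → Bool) (σ : Sp 6 →+ Sp 6) (h3 : ∀ v, σ (σ (σ v)) = v)
    (hfix : ∀ v, σ v = v → v = 0) (hq : ∀ v, beta t (σ v) (σ v) = beta t v v) :
    ∃ pr : Sp 6 →+ V6, Function.Bijective pr ∧ (∀ v, pr (σ v) = om • pr v) ∧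
      (∀ v, beta t v v = 0 ↔ herm6 (pr v) (pr v) = 0) ∧
      ∀ v u, herm6 (pr v) (pr u) = hh σ v u := by
  obtain ⟨hadd, homv, homv2, hsq, -, hzero, hall, hself⟩ := io_facts
  have hsum : ∀ v, σ (σ v) + σ v + v = 0 := fun v => hfix _ (by
    simp only [map_add, h3]; abel)
  have hss : ∀ v, σ (σ v) = σ v + v := fun v => by
    have := congrArg (fun w => w + (σ v + v)) (hsum v)
    rwa [zero_add, show σ (σ v) + σ v + v + (σ v + v) = σ (σ v) + ((σ v + σ v) + (v + v)) by abel,
      sp_add_self, sp_add_self, add_zero, add_zero] at this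
  have halt : ∀ v u, alt (σ v) (σ u) = alt v u := fun v u => by
    have h := hq (v + u)
    rw [map_add, beta_add_self, beta_add_self, hq, hq] at h
    exact add_left_cancel h
  have h1 : ∀ v u, hh σ (σ v) u = om * hh σ v u := fun v u => by
    have e : alt (σ v) u = alt (σ (σ v)) u + alt v u := by
      rw [← alt_add_left, hss, show σ v + v + v = σ v + (v + v) by abel, sp_add_self, add_zero]
    rw [hh, hh, h3, e, homv]
  have h2 : ∀ v u, hh σ v (σ u) = om ^ 2 * hh σ v u := fun v u => by
    have e1 : alt (σ (σ v)) (σ u) = alt (σ (σ v)) u + alt v u := by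
      rw [halt, ← alt_add_left, hss, show σ v + v + v = σ v + (v + v) by abel, sp_add_self, add_zero]
    have e2 : alt v (σ u) = alt (σ (σ v)) u := by
      rw [← halt (σ (σ v)) u, h3]
    rw [hh, hh, e1, e2, homv2]
  have hsym : ∀ v u, hh σ u v = hh σ v u ^ 2 := fun v u => by
    have e : alt (σ (σ u)) v = alt (σ (σ v)) u + alt v u := by
      rw [alt_comm, ← halt v (σ (σ u)), h3, ← alt_add_left, hss,
        show σ v + v + v = σ v + (v + v) by abel, sp_add_self, add_zero]
    rw [hh, hh, e, alt_comm u v, hsq]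
  have haddl : ∀ v w u, hh σ (v + w) u = hh σ v u + hh σ w u := fun v w u => by
    simp only [hh, map_add, alt_add_left, hadd]; ring
  have haddr : ∀ v u w, hh σ v (u + w) = hh σ v u + hh σ v w := fun v u w => by
    simp only [hh, alt_add_right, hadd]; ring
  -- the scalar action
  let S : AddMonoid.End (Sp 6) := σ
  let sc : F4 → AddMonoid.End (Sp 6) := fun a =>
    if a = 0 then 0 else if a = 1 then 1 else if a = om then S else S * S
  have hSS : ∀ v, (S * S) v = S v + v := hss
  have hscal : ∀ a : F4, sc a = 0 ∧ a = 0 ∨ sc a = 1 ∧ a = 1 ∨ sc a = S ∧ a = om ∨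
      sc a = S * S ∧ a = om ^ 2 := by
    intro a
    rcases hall a with rfl | rfl | rfl | rfl
    · exact Or.inl ⟨if_pos rfl, rfl⟩
    · exact Or.inr (Or.inl ⟨by simp [sc, show (1 : F4) ≠ 0 from one_ne_zero], rfl⟩)
    · exact Or.inr (Or.inr (Or.inl ⟨by simp [sc, show om ≠ 0 by decide, show om ≠ 1 by decide], rfl⟩))
    · exact Or.inr (Or.inr (Or.inr ⟨by simp [sc, show om ^ 2 ≠ 0 by decide, show om ^ 2 ≠ 1 by decide,
        show om ^ 2 ≠ om by decide], rfl⟩))
  have e0 : sc 0 = 0 := if_pos rfl
  have e1 : sc 1 = 1 := by simp [sc, show (1 : F4) ≠ 0 from one_ne_zero]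
  have e2 : sc om = S := by simp [sc, show om ≠ 0 by decide, show om ≠ 1 by decide]
  have e3 : sc (om ^ 2) = S * S := by
    simp [sc, show om ^ 2 ≠ 0 by decide, show om ^ 2 ≠ 1 by decide, show om ^ 2 ≠ om by decide]
  have hA : ∀ (X Y : AddMonoid.End (Sp 6)) v, (X + Y) v = X v + Y v := fun _ _ _ => rfl
  have h0v : ∀ v, (0 : AddMonoid.End (Sp 6)) v = 0 := fun _ => rfl
  have h1v : ∀ v, (1 : AddMonoid.End (Sp 6)) v = v := fun _ => rfl
  let r : F4 →+* AddMonoid.End (Sp 6) :=
    { toFun := sc
      map_one' := e1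
      map_zero' := e0
      map_mul' := by
        intro a b
        have w1 : om * om = om ^ 2 := by decide
        have w2 : om * om ^ 2 = 1 := by decide
        have w3 : om ^ 2 * om = 1 := by decide
        have w4 : om ^ 2 * om ^ 2 = om := by decide
        refine AddMonoidHom.ext fun v => ?_
        rcases hall a with rfl | rfl | rfl | rfl <;> rcases hall b with rfl | rfl | rfl | rfl <;>
          simp only [zero_mul, mul_zero, one_mul, mul_one, w1, w2, w3, w4, e0, e1, e2, e3]
        all_goals
          first | rfl | exact (h3 v).symm | exact (congrArg σ (h3 v)).symm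
      map_add' := by
        intro a b
        have w1 : (1 : F4) + om = om ^ 2 := by decide
        have w2 : (1 : F4) + om ^ 2 = om := by decide
        have w3 : om + 1 = om ^ 2 := by decide
        have w4 : om + om ^ 2 = 1 := by decide
        have w5 : om ^ 2 + 1 = om := by decide
        have w6 : om ^ 2 + om = 1 := by decide
        refine AddMonoidHom.ext fun v => ?_
        show sc (a + b) v = sc a v + sc b v
        rcases hall a with rfl | rfl | rfl | rfl <;> rcases hall b with rfl | rfl | rfl | rfl <;>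
          simp only [zero_add, add_zero, hself, w1, w2, w3, w4, w5, w6, e0, e1, e2, e3, h0v, h1v, hSS]
        all_goals
          first
          | rfl
          | exact (sp_add_self _).symm
          | (abel_nf <;> simp [two_smul, sp_add_self]) }
  letI : Module F4 (Sp 6) := Module.compHom _ r
  have hsm : ∀ v, om • v = σ v := fun v => DFunLike.congr_fun e2 v
  have hsm2 : ∀ v, (om ^ 2) • v = σ (σ v) := fun v => DFunLike.congr_fun e3 v
  have hz : ∀ u, hh σ 0 u = 0 := fun u => by
    simp [hh, alt_zero_left, io]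
  have hsmull : ∀ (a : F4) v u, hh σ (a • v) u = a * hh σ v u := by
    intro a v u
    rcases hall a with rfl | rfl | rfl | rfl
    · rw [zero_smul, hz, zero_mul]
    · rw [one_smul, one_mul]
    · rw [hsm, h1]
    · rw [hsm2, h1, h1]; ring
  let B : Sp 6 →ₛₗ[CfsgLib.Classical.qFrob card_F4'] Sp 6 →ₗ[F4] F4 :=
    LinearMap.mk₂'ₛₗ (CfsgLib.Classical.qFrob card_F4') (RingHom.id F4) (fun u v => hh σ v u)
      (fun u u' v => haddr v u u')
      (fun a u v => by
        rw [CfsgLib.Classical.qFrob_apply, smul_eq_mul, hsym (a • u) v, hsmull, mul_pow, ← hsym u v])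
      (fun u v v' => haddl v v' u)
      (fun a u v => hsmull a v u)
  haveI : Module.Finite F4 (Sp 6) := Module.Finite.of_finite
  have hrank : Module.finrank F4 (Sp 6) = 6 := by
    have h := Module.natCard_eq_pow_finrank (K := F4) (V := Sp 6)
    rw [Nat.card_eq_fintype_card, Nat.card_eq_fintype_card, card_F4,
      show Fintype.card (Sp 6) = 4 ^ 6 by simp [Fintype.card_prod, ZMod.card]] at h
    exact (Nat.pow_right_injective (by norm_num) h).symm
  obtain ⟨e, he⟩ := CfsgLib.Geom.exists_isometry_hermB card_F4' 6 B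
    (fun u v => by
      rw [CfsgLib.Classical.qFrob_apply]
      exact (hsym v u).symm)
    (fun u hu => by
      by_contra hu0
      obtain ⟨w, hw⟩ := alt_nondeg hu0
      have h := ((hzero _ _).1 (hu w : hh σ w u = 0)).2
      rw [alt_comm, hw] at h
      exact one_ne_zero h) hrank
  have hform : ∀ v u, herm6 (e v) (e u) = hh σ v u := fun v u => by
    rw [show herm6 (e v) (e u) = CfsgLib.Classical.hermB card_F4' 6 (e u) (e v) from
      (CfsgLib.Classical.hermB_apply card_F4' _ _).symm]
    exact he u v
  refine ⟨e.toAddEquiv.toAddMonoidHom, e.bijective, fun v => ?_, fun v => ?_, hform⟩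
  · show e (σ v) = om • e v
    rw [← hsm, map_smul]
  · show _ ↔ herm6 (e v) (e v) = 0
    have hvv : alt v v = 0 := by rw [← beta_symm t, z2_add_self]
    have hev : alt (σ (σ v)) v = beta t v v := by
      have h := beta_add_self t (σ (σ v)) v
      rw [show σ (σ v) + v = σ v by rw [hss, show σ v + v + v = σ v + (v + v) by abel, sp_add_self,
        add_zero], hq, hq, hq] at h
      revert h
      generalize beta t v v = p; generalize alt (σ (σ v)) v = a
      revert p a; decide
    rw [hform, hh, hzero, hvv, hev, and_iff_left rfl]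

end CfsgLib.ClassK.FiCoord
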